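import Cfsg.Agent.H889.Gen.OrthFld
import Cfsg.Agent.H889.Gen.OrthInner
import Cfsg.Agent.H900.Gen.OrthA
import Cfsg.Agent.LieRecognition.FieldSemilinear

/-!
# S2187, the orthogonal rows (helper889)

* `inner_of_Lin` : automorphisms of odd prime order induced by similitudes are inner;
* `step` : the generation statement for subgroups of the range of `Psi Q`, from the smaller fields;
* `gen_all` : `Gen p (E Q ⧸ Z)`, dimension at least seven, from the triality statement `Tri`;
* `row_oodd`, `row_oplus`, `row_ominus`.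
-/

set_option autoImplicit false
set_option linter.unusedSectionVars false

namespace Cfsg.Agent.H889.Gen.Row

open QuadraticMap Cfsg
open Cfsg.Agent.LieClassical.OrthCore Cfsg.Agent.LieClassical.OrthTrans Cfsg.Agent.LieClassical.OrthFinite
open Cfsg.Agent.LieClassical.OrthForms Cfsg.Agent.LieClassical.OrthSimple
open Cfsg.Agent.ClassicalGeometry.OrthSemi Cfsg.Agent.ClassicalGeometry.OrthSemiForms
open Cfsg.Agent.CpAut.Psl (fixf mem_fixf)
open Cfsg.Agent.H889.Gen.Fld Cfsg.Agent.H818.Gen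
open Cfsg.Agent.H847.Bs Cfsg.Agent.H900.Gen
open scoped commutatorElement

/-! ### similitudes -/

section lin

variable {F V : Type*} [Field F] [AddCommGroup V] [Module F V] {Q : QuadraticForm F V}

theorem mem_of_pow {X : Type*} [Group X] (R : Subgroup X) {x : X} {p : ℕ} (hp : p % 2 = 1) (h4 : x ^ 4 ∈ R)
    (hx : x ^ p = 1) : x ∈ R := by
  have h : p % 4 = 1 ∨ p % 4 = 3 := by omega
  rcases h with h | h
  · have h1 : x = x ^ p * ((x ^ 4) ^ (p / 4))⁻¹ := by
      rw [eq_mul_inv_iff_mul_eq, ← pow_mul, ← pow_succ']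
      congr 1
      omega
    rw [h1, hx, one_mul]
    exact R.inv_mem (R.pow_mem h4 _)
  · have h1 : x = (x ^ 4) ^ (p / 4 + 1) := by
      rw [← pow_mul]
      have h2 : 4 * (p / 4 + 1) = p + 1 := by omega
      rw [h2, pow_succ, hx, one_mul]
    rw [h1]
    exact R.pow_mem h4 _

theorem Psi_of_iso {N : Gam Q} {n : V ≃ₗ[F] V} (hn : ∀ v, n v = N.1 v) (hnE : n ∈ E Q) :
    Psi Q N = MulAut.conj (QuotientGroup.mk (⟨n, hnE⟩ : ↥(E Q)) : ↥(E Q) ⧸ Subgroup.center ↥(E Q)) := by
  apply MulEquiv.ext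
  intro x
  induction x using QuotientGroup.induction_on with
  | H k =>
    rw [Psi_mk]
    change _ = (QuotientGroup.mk (⟨n, hnE⟩ : ↥(E Q)) * QuotientGroup.mk k * (QuotientGroup.mk (⟨n, hnE⟩ : ↥(E Q)))⁻¹ :
      ↥(E Q) ⧸ Subgroup.center ↥(E Q))
    have h7 : Cfsg.Agent.ClassicalGeometry.OrthSemi.conjE Q N k =
        (⟨n, hnE⟩ : ↥(E Q)) * k * (⟨n, hnE⟩ : ↥(E Q))⁻¹ := by
      apply Subtype.ext
      rw [coe_conjE]
      apply LinearEquiv.ext
      intro v
      obtain ⟨w, rfl⟩ := N.1.surjective v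
      rw [conjLin_apply']
      change N.1 (k.1 w) = n (k.1 (n⁻¹ (N.1 w)))
      have h8 : n⁻¹ (N.1 w) = w := by
        rw [← hn]
        exact n.symm_apply_apply w
      rw [h8, hn]
    rw [h7]
    rfl

theorem inner_of_Lin (hG : Good Q) {p : ℕ} (hp : p % 2 = 1) {x : MulAut (↥(E Q) ⧸ Subgroup.center ↥(E Q))}
    (hx : x ∈ Lin Q) (hxp : x ^ p = 1) : x ∈ (MulAut.conj : ↥(E Q) ⧸ Subgroup.center ↥(E Q) →* _).range := by
  refine mem_of_pow _ hp ?_ hxp
  obtain ⟨M, ⟨c, hM⟩, rfl⟩ := hx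
  have hc0 : c ≠ 0 := hM.ne
  let d : Fˣ := Units.mk0 c⁻¹ (inv_ne_zero hc0)
  obtain ⟨N, hN⟩ : ∃ N : Gam Q, N = scal Q d * M * M := ⟨_, rfl⟩
  have hNv : ∀ v, N.1 v = c⁻¹ • M.1 (M.1 v) := by
    intro v
    rw [hN]
    rfl
  let n : V ≃ₗ[F] V :=
    { N.1 with
      map_add' := fun u v => by
        change N.1 (u + v) = N.1 u + N.1 v
        rw [hNv, hNv, hNv, hM.add, hM.add, smul_add]
      map_smul' := fun a v => by
        change N.1 (a • v) = a • N.1 v
        rw [hNv, hNv, hM.smul, hM.smul, smul_comm]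
        rfl }
  have hn : ∀ v, n v = N.1 v := fun v => rfl
  have hnO : n ∈ O Q := by
    intro v
    rw [hn, hNv, QuadraticMap.map_smul, hM.form, hM.form, smul_eq_mul]
    change c⁻¹ * c⁻¹ * (c * (c * Q v)) = Q v
    field_simp
  have hnE : n * n ∈ E Q := Cfsg.Agent.ETable.Orth.sq_mem_E hG hnO
  have h5 : Psi Q M ^ 4 = Psi Q (N * N) := by
    have h6 : Psi Q (scal Q d) = 1 := by
      rw [← MonoidHom.mem_ker, ker_Psi hG]
      exact ⟨d, rfl⟩
    rw [hN, map_mul, map_mul, map_mul, h6, one_mul, pow_succ, pow_succ, pow_two]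
    group
  rw [h5, Psi_of_iso (n := n * n) (fun v => rfl) hnE]
  exact ⟨_, rfl⟩

end lin

/-! ### the step -/

section step

variable {F : Type} [Field F] [Finite F] {V : Type} [AddCommGroup V] [Module F V] [Module.Finite F V]
  {Q : QuadraticForm F V} {r p : ℕ}

/-- the field part of an element of order `p` -/
theorem field_pow (hG : Good Q) {M : Gam Q} {σ : F ≃+* F} {l : F} (hM : IsSS Q σ l M.1) (h : Psi Q M ^ p = 1) :
    σ ^ p = 1 := by
  rw [← map_pow, ← MonoidHom.mem_ker, ker_Psi hG] at h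
  obtain ⟨a, ha⟩ := h
  have ha' : (scal Q a).1 = M.1 ^ p := congrArg Subtype.val ha
  have h2 := Cfsg.Agent.CpAut.Orth.isSS_pow hM p
  rw [← ha'] at h2
  have h4 : IsSS Q (1 : F ≃+* F) ((a : F) * a) (scal Q a).1 :=
    ⟨mul_ne_zero a.ne_zero a.ne_zero, fun u v => smul_add _ _ _, fun t v => smul_comm _ _ _, fun v => by
      change Q ((a : F) • v) = _
      rw [QuadraticMap.map_smul]
      rfl⟩
  exact (Cfsg.Agent.CpAut.Orth.isSS_unique (Cfsg.Agent.CpAut.Orth.exists_ne hG) h2 h4).1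

/-- elements of order `p` of a cyclic group -/
theorem mem_zpowers_of_cyclic {C : Type*} [Group C] [Finite C] (hC : IsCyclic C) (hp : p.Prime) {s t : C} (hs : s ^ p = 1)
    (hs1 : s ≠ 1) (ht : t ^ p = 1) : t ∈ Subgroup.zpowers s := by
  have : Fact p.Prime := ⟨hp⟩
  have ho : orderOf s = p := orderOf_eq_prime hs hs1
  classical
  have := Fintype.ofFinite C
  have h1 := IsCyclic.card_pow_eq_one_le (α := C) hp.pos
  have h2 : (Finset.range p).image (fun i => s ^ i) ⊆ Finset.univ.filter (fun a : C => a ^ p = 1) := by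
    intro a ha
    obtain ⟨i, -, rfl⟩ := Finset.mem_image.1 ha
    rw [Finset.mem_filter]
    refine ⟨Finset.mem_univ _, ?_⟩
    rw [← pow_mul, mul_comm, pow_mul, hs, one_pow]
  have h3 : ((Finset.range p).image (fun i => s ^ i)).card = p := by
    rw [Finset.card_image_of_injOn, Finset.card_range]
    intro i hi j hj hij
    have hi' : i < orderOf s := by rw [ho]; exact Finset.mem_range.1 hi
    have hj' : j < orderOf s := by rw [ho]; exact Finset.mem_range.1 hj
    exact pow_injOn_Iio_orderOf hi' hj' hij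
  have h4 := Finset.eq_of_subset_of_card_le h2 (by rw [h3]; exact h1)
  have h5 : t ∈ Finset.univ.filter (fun a : C => a ^ p = 1) := by
    rw [Finset.mem_filter]
    exact ⟨Finset.mem_univ _, ht⟩
  rw [← h4] at h5
  obtain ⟨i, -, hi⟩ := Finset.mem_image.1 h5
  rw [← hi]
  exact Subgroup.npow_mem_zpowers s i

/-- **The step.** -/
theorem step (hc : Cond r p) [CharP F r] (hQ : Nondeg Q) (hd : 7 ≤ Module.finrank F V)
    (hf : KFacts.RgdFilt.HasFilt r (↥(E Q) ⧸ Subgroup.center ↥(E Q)))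
    (IH : ∀ σ : F ≃+* F, orderOf σ = p →
      ∀ Q₀ : QuadraticForm (fixf σ) (Fin (Module.finrank F V) → fixf σ), Nondeg Q₀ →
        Gen p (↥(E Q₀) ⧸ Subgroup.center ↥(E Q₀)))
    {E₀ : Subgroup (MulAut (↥(E Q) ⧸ Subgroup.center ↥(E Q)))} (hE : IsElementaryAbelian p E₀)
    (hE2 : p ^ 2 ≤ Nat.card E₀) (hr : E₀ ≤ (Psi Q).range) : Gam p E₀ = ⊤ := by
  have : Fact r.Prime := ⟨hc.r_prime⟩
  have : Fact p.Prime := ⟨hc.p_prime⟩
  have hG : Good Q := good_of_finite hQ (by omega)
  have hs : IsSimpleGroup (↥(E Q) ⧸ Subgroup.center ↥(E Q)) := good_isSimpleGroup hG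
  have hfinV : Finite V := Module.finite_of_finite F
  have hfinG : Finite (V ≃ₗ[F] V) := Finite.of_injective (fun g : V ≃ₗ[F] V => (g : V → V)) DFunLike.coe_injective
  have hodd : p % 2 = 1 := by
    rcases hc.p_prime.eq_two_or_odd with h | h
    · exact absurd h hc.p_ne_two
    · exact h
  have h7 : (2 : F) = 0 → 7 ≤ p := by
    intro h2
    rcases hc.big with h | h
    · exact h
    · exfalso
      apply h
      have h3 : ((2 : ℕ) : F) = 0 := by exact_mod_cast h2
      rw [CharP.cast_eq_zero_iff F r] at h3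
      exact (Nat.prime_dvd_prime_iff_eq hc.r_prime Nat.prime_two).1 h3
  by_cases hlin : E₀ ≤ Lin Q
  · have hin : E₀ ≤ (MulAut.conj : ↥(E Q) ⧸ Subgroup.center ↥(E Q) →* _).range := fun x hx =>
      inner_of_Lin hG hodd (hlin hx) (hE.2 x hx)
    exact gam_abs hG hc.p_ne_two hc.p_ne_r (lin_orth hG h7) (noncomm_of hG (quo0 Q)) hf (quo0 Q) hE hE2 hin
  · obtain ⟨ψ, hψ, hψ'⟩ := SetLike.not_le_iff_exists.1 hlin
    obtain ⟨M, rfl⟩ := hr hψ
    obtain ⟨σ, l, hM⟩ := M.2
    have hσ : σ ≠ 1 := by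
      rintro rfl
      exact hψ' (mem_Lin hM)
    have hσp : σ ^ p = 1 := field_pow hG hM (hE.2 _ hψ)
    -- an element outside `⟨ψ⟩`
    have hord : orderOf (Psi Q M) = p := orderOf_eq_prime (hE.2 _ hψ) (by
      intro h
      apply hψ'
      rw [h]
      exact (Lin Q).one_mem)
    obtain ⟨y, hy, hy'⟩ : ∃ y ∈ E₀, y ∉ Subgroup.zpowers (Psi Q M) := by
      by_contra hcon
      push Not at hcon
      have h1 : E₀ ≤ Subgroup.zpowers (Psi Q M) := hcon
      have h2 := Subgroup.card_le_of_le h1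
      rw [Nat.card_zpowers, hord] at h2
      nlinarith [hc.p_prime.one_lt]
    obtain ⟨N, rfl⟩ := hr hy
    obtain ⟨τ, l', hN⟩ := N.2
    have hτp : τ ^ p = 1 := field_pow hG hN (hE.2 _ hy)
    have hcyc : IsCyclic (F ≃+* F) := LieRecognition.FieldSemilinear.isCyclic_ringAut F
    have hfinA : Finite (F ≃+* F) := Finite.of_injective (fun g : F ≃+* F => (g : F → F)) DFunLike.coe_injective
    have hτσ := mem_zpowers_of_cyclic hcyc hc.p_prime hσp hσ hτp
    obtain ⟨k, hk⟩ : ∃ k : ℕ, σ ^ k = τ := by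
      have h1 := (mem_powers_iff_mem_zpowers (x := σ)).2 hτσ
      obtain ⟨k, hk⟩ := h1
      exact ⟨k, hk⟩
    have hMk := Cfsg.Agent.CpAut.Orth.isSS_pow hM k
    have hx : (Psi Q N) * (Psi Q M ^ k)⁻¹ ∈ Lin Q := by
      rw [← map_pow, ← map_inv, ← map_mul]
      obtain ⟨c, h1⟩ : ∃ c : F, IsSS Q ((σ ^ k).symm.trans τ) c (N * (M ^ k)⁻¹).1 := ⟨_, hN.mul hMk.inv⟩
      have h2 : (σ ^ k).symm.trans τ = (1 : F ≃+* F) := by
        rw [hk]
        ext a
        exact τ.apply_symm_apply a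
      rw [h2] at h1
      exact mem_Lin h1
    refine Cfsg.Agent.H972.Gen.field_top hE hE2 (Lin := Lin Q) (fun x hx hx' =>
      dat_of hG hd hc.p_prime (hr hx) (hE.2 x hx) hx' IH) hψ hψ'
      (E₀.mul_mem hy (E₀.inv_mem (E₀.pow_mem hψ k))) hx ?_
    intro h1
    apply hy'
    rw [mul_inv_eq_one.1 h1]
    exact Subgroup.npow_mem_zpowers _ k

end step

/-! ### all forms -/

/-- an element of order `p ≥ 5` lies in every subgroup of index three -/
theorem mem_of_index_three {X : Type*} [Group X] {H : Subgroup X} (hH : H.index = 3) {p : ℕ} (hp : p.Prime) (h5 : 5 ≤ p)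
    {x : X} (hx : x ^ p = 1) : x ∈ H := by
  classical
  have hfin : Finite (X ⧸ H) := by
    apply Nat.finite_of_card_ne_zero
    rw [← Subgroup.index_eq_card, hH]
    norm_num
  have := Fintype.ofFinite (X ⧸ H)
  have hcard : Fintype.card (X ⧸ H) = 3 := by rw [← Nat.card_eq_fintype_card, ← Subgroup.index_eq_card, hH]
  let f : X →* Equiv.Perm (X ⧸ H) := MulAction.toPermHom X (X ⧸ H)
  have h1 : orderOf (f x) ∣ p := orderOf_dvd_of_pow_eq_one (by rw [← map_pow, hx, map_one])
  have h2 : orderOf (f x) ∣ 6 := by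
    have h3 := orderOf_dvd_card (x := f x)
    rw [Fintype.card_perm, hcard] at h3
    exact h3
  have h3 : orderOf (f x) = 1 := by
    rcases (Nat.dvd_prime hp).1 h1 with h | h
    · exact h
    · exfalso
      rw [h] at h2
      have h4 := Nat.le_of_dvd (by norm_num) h2
      interval_cases p
      · norm_num at h2
      · norm_num at hp
  have h4 : f x = 1 := orderOf_eq_one_iff.1 h3
  have h5 : x • ((1 : X) : X ⧸ H) = ((1 : X) : X ⧸ H) := congrArg (fun g : Equiv.Perm (X ⧸ H) => g ((1 : X) : X ⧸ H)) h4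
  rw [MulAction.Quotient.smul_coe, smul_eq_mul, mul_one] at h5
  have h6 := QuotientGroup.eq.1 h5.symm
  rwa [inv_one, one_mul] at h6

/-- the triality statement -/
def Tri (r : ℕ) : Prop :=
  ∀ (F : Type) [Field F] [Fintype F] [CharP F r]
    (E₀ : Subgroup (MulAut (↥(E (plusForm 4 F)) ⧸ Subgroup.center ↥(E (plusForm 4 F))))),
    IsElementaryAbelian 3 E₀ → 3 ^ 2 ≤ Nat.card E₀ → ¬ E₀ ≤ (Psi (plusForm 4 F)).range → Gam 3 E₀ = ⊤

/-- **All forms.** -/
theorem gen_all {r p : ℕ} (hc : Cond r p) (htri : p = 3 → Tri r) : ∀ (N : ℕ) (F : Type) [Field F] [Finite F]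
    [CharP F r], Nat.card F = N → ∀ (V : Type) [AddCommGroup V] [Module F V] [Module.Finite F V]
    (Q : QuadraticForm F V), Nondeg Q → 7 ≤ Module.finrank F V → Gen p (↥(E Q) ⧸ Subgroup.center ↥(E Q)) := by
  have : Fact r.Prime := ⟨hc.r_prime⟩
  intro N
  induction N using Nat.strong_induction_on with
  | _ N ih =>
  intro F _ _ _ hN V _ _ _ Q hQ hd
  have := Fintype.ofFinite F
  have IH : ∀ n : ℕ, 7 ≤ n → ∀ σ : F ≃+* F, orderOf σ = p → ∀ Q₀ : QuadraticForm (fixf σ) (Fin n → fixf σ), Nondeg Q₀ →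
      Gen p (↥(E Q₀) ⧸ Subgroup.center ↥(E Q₀)) := by
    intro n hn σ hσ Q₀ hQ₀
    have hchar : CharP ↥(fixf σ) r :=
      (RingHom.charP_iff (fixf σ).subtype (fixf σ).subtype.injective r).2 inferInstance
    have h1 : Nat.card F = Nat.card ↥(fixf σ) ^ p := Cfsg.Agent.H27.Psl.card_fixf hc.p_prime hσ
    have h2 : 1 < Nat.card ↥(fixf σ) := Finite.one_lt_card
    refine ih (Nat.card ↥(fixf σ)) ?_ (fixf σ) rfl _ Q₀ hQ₀ ?_
    · rw [← hN, h1]
      exact lt_self_pow₀ h2 hc.p_prime.one_lt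
    · rw [Module.finrank_fintype_fun_eq_card, Fintype.card_fin]
      exact hn
  have hG : Good Q := good_of_finite hQ (by omega)
  rcases GenOrth.normal_form (F := F) _ hQ rfl with ⟨k, hk, c, hc', j, hj⟩ | ⟨k, hk, c, hc', j, hj⟩ |
    ⟨k, hk, a, b, hab, c, hc', j, hj⟩
  · -- odd dimension
    have h2 : (2 : F) ≠ 0 := by
      intro h2
      have h3 : j (Pi.single (Sum.inl ()) 1) = 0 := by
        apply hQ
        intro v
        obtain ⟨w, rfl⟩ := j.surjective v
        have h4 : polar Q (j (Pi.single (Sum.inl ()) 1)) (j w) = c * polar (oddForm k F) (Pi.single (Sum.inl ()) 1) w := by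
          simp only [polar]
          rw [← map_add, hj, hj, hj, coe_oddForm]
          ring
        rw [h4, polar_oddForm, h2]
        simp
      have h5 := j.map_eq_zero_iff.1 h3
      have h6 := congrFun h5 (Sum.inl ())
      rw [Pi.single_eq_same] at h6
      exact one_ne_zero h6
    have hodd : Odd (Fintype.card F) := Cfsg.Agent.LieClassical.PomegaCard.odd_card_iff.2 h2
    have hG' : Good (oddForm k F) := good_odd (by omega) h2
    obtain ⟨e⟩ := Cfsg.Agent.CpAut.OrthMain.equiv_of_sim hG hG' hc' j (fun x => by rw [hj, coe_oddForm])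
    refine Gen.congr (quotientCenterCongr e) ?_
    have hfr : 7 ≤ Module.finrank F (Unit ⊕ (Fin k ⊕ Fin k) → F) := by
      rw [Module.finrank_fintype_fun_eq_card, Fintype.card_sum, Fintype.card_sum, Fintype.card_fin, Fintype.card_unit]
      omega
    have hf : KFacts.RgdFilt.HasFilt r (↥(E (oddForm k F)) ⧸ Subgroup.center ↥(E (oddForm k F))) := by
      have e1 := (pomegaEquiv hG').symm
      rw [coe_oddForm] at e1
      exact KFacts.RgdLieCharP.hasFilt_of_lie (Or.inr (Or.inr (Or.inr (Or.inl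
        ⟨F, inferInstance, inferInstance, inferInstance, k, by omega, hodd, ⟨e1⟩⟩))))
    intro E₀ hE hE2
    refine step hc (nondeg_oddForm k F h2) hfr hf (IH _ hfr) hE hE2 ?_
    intro x _
    exact AutOrth.Final.surjective_odd (by omega) h2 x
  · -- plus type
    have hG' : Good (plusForm k F) := good_plus (by omega)
    obtain ⟨e⟩ := Cfsg.Agent.CpAut.OrthMain.equiv_of_sim hG hG' hc' j (fun x => by rw [hj, coe_plusForm])
    refine Gen.congr (quotientCenterCongr e) ?_
    have hfr : 7 ≤ Module.finrank F (Fin k ⊕ Fin k → F) := by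
      rw [Module.finrank_fintype_fun_eq_card, Fintype.card_sum, Fintype.card_fin]
      omega
    have hf : KFacts.RgdFilt.HasFilt r (↥(E (plusForm k F)) ⧸ Subgroup.center ↥(E (plusForm k F))) := by
      have e1 := (pomegaEquiv hG').symm
      rw [coe_plusForm] at e1
      exact KFacts.RgdLieCharP.hasFilt_of_lie (Or.inr (Or.inr (Or.inr (Or.inr (Or.inl
        ⟨F, inferInstance, inferInstance, inferInstance, k, by omega, ⟨e1⟩⟩)))))
    intro E₀ hE hE2
    have main : E₀ ≤ (Psi (plusForm k F)).range → Gam p E₀ = ⊤ := fun h =>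
      step hc (nondeg_plusForm k F) hfr hf (IH _ hfr) hE hE2 h
    by_cases hk5 : 5 ≤ k
    · exact main fun x _ => AutOrth.Final.surjective_plus hk5 x
    · obtain rfl : k = 4 := by omega
      by_cases hp3 : p = 3
      · by_cases hle : E₀ ≤ (Psi (plusForm 4 F)).range
        · exact main hle
        · subst hp3
          exact htri rfl F E₀ hE hE2 hle
      · have h5 : 5 ≤ p := by
          have h3 := hc.three_le
          have h4 : p ≠ 4 := by
            rintro rfl
            exact absurd hc.p_prime (by norm_num)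
          omega
        exact main fun x hx => mem_of_index_three AutOrth.Final.index_plus_four hc.p_prime h5 (hE.2 x hx)
  · -- minus type
    have hG' : Good (minusForm k F a b) := good_minus (by omega) a b hab
    obtain ⟨e⟩ := Cfsg.Agent.CpAut.OrthMain.equiv_of_sim hG hG' hc' j (fun x => by rw [hj, coe_minusForm])
    refine Gen.congr (quotientCenterCongr e) ?_
    have hfr : 7 ≤ Module.finrank F ((Fin k ⊕ Fin k) ⊕ Fin 2 → F) := by
      rw [Module.finrank_fintype_fun_eq_card, Fintype.card_sum, Fintype.card_sum, Fintype.card_fin, Fintype.card_fin]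
      omega
    have hf : KFacts.RgdFilt.HasFilt r (↥(E (minusForm k F a b)) ⧸ Subgroup.center ↥(E (minusForm k F a b))) := by
      have e1 := (pomegaEquiv hG').symm
      rw [coe_minusForm] at e1
      exact KFacts.RgdLieCharP.hasFilt_of_lie (Or.inr (Or.inr (Or.inr (Or.inr (Or.inr (Or.inl
        ⟨F, inferInstance, inferInstance, inferInstance, k + 1, a, b, by omega, hab, ⟨e1⟩⟩))))))
    intro E₀ hE hE2
    refine step hc (nondeg_minusForm k F a b hab) hfr hf (IH _ hfr) hE hE2 ?_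
    intro x _
    exact AutOrth.Final.surjective_minus (by omega) hab x

/-! ### the rows -/

section rows

variable {F : Type} [Field F] [Fintype F] {r p : ℕ} [CharP F r]

/-- **`PΩ_{2m+1}(q)`** -/
theorem row_oodd (hc : Cond r p) (htri : p = 3 → Tri r) {m : ℕ} (hm : 3 ≤ m) (hodd : Odd (Fintype.card F)) :
    Gen p (POmega F (quadFormOdd m F)) := by
  have h2 : (2 : F) ≠ 0 := Cfsg.Agent.LieClassical.PomegaCard.odd_card_iff.1 hodd
  have hG : Good (oddForm m F) := good_odd (by omega) h2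
  have h1 : Gen p (POmega F ⇑(oddForm m F)) := Gen.congr (pomegaEquiv hG).symm
    (gen_all hc htri _ F rfl _ (oddForm m F) (nondeg_oddForm m F h2) (by
      rw [Module.finrank_fintype_fun_eq_card, Fintype.card_sum, Fintype.card_sum, Fintype.card_fin, Fintype.card_unit]
      omega))
  rwa [coe_oddForm] at h1

/-- **`PΩ⁺_{2m}(q)`** -/
theorem row_oplus (hc : Cond r p) (htri : p = 3 → Tri r) {m : ℕ} (hm : 4 ≤ m) :
    Gen p (POmega F (quadFormPlus m F)) := by
  have hG : Good (plusForm m F) := good_plus (by omega)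
  have h1 : Gen p (POmega F ⇑(plusForm m F)) := Gen.congr (pomegaEquiv hG).symm
    (gen_all hc htri _ F rfl _ (plusForm m F) (nondeg_plusForm m F) (by
      rw [Module.finrank_fintype_fun_eq_card, Fintype.card_sum, Fintype.card_fin]
      omega))
  rwa [coe_plusForm] at h1

/-- **`PΩ⁻_{2m}(q)`** -/
theorem row_ominus (hc : Cond r p) (htri : p = 3 → Tri r) {m : ℕ} {a b : F} (hm : 4 ≤ m)
    (hab : ∀ z₁ z₂ : F, z₁ ^ 2 + a * z₁ * z₂ + b * z₂ ^ 2 = 0 → z₁ = 0 ∧ z₂ = 0) :
    Gen p (POmega F (quadFormMinus (m - 1) F a b)) := by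
  have hG : Good (minusForm (m - 1) F a b) := good_minus (by omega) a b hab
  have h1 : Gen p (POmega F ⇑(minusForm (m - 1) F a b)) := Gen.congr (pomegaEquiv hG).symm
    (gen_all hc htri _ F rfl _ (minusForm (m - 1) F a b) (nondeg_minusForm (m - 1) F a b hab) (by
      rw [Module.finrank_fintype_fun_eq_card, Fintype.card_sum, Fintype.card_sum, Fintype.card_fin, Fintype.card_fin]
      omega))
  rwa [coe_minusForm] at h1

end rows

end Cfsg.Agent.H889.Gen.Row
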