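import Cfsg.Agent.H889.Gen.Quo
import Cfsg.Agent.H522.Gen.OppGam

/-!
# S2187, orthogonal rows: reduction to linear algebra (helper889)

`gam_abs` : `G = PΩ(Q)`, `E` an elementary abelian `p`-group of inner automorphisms of rank at least two ==>
`Gam p E = ⊤`, from `LinIso (frmQ Q) p (E Q)`.
-/

set_option autoImplicit false
set_option linter.unusedSectionVars false

namespace Cfsg.Agent.H889.Gen

open QuadraticMap Cfsg.Agent.LieClassical.OrthCore Cfsg.Agent.LieClassical.OrthTrans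
open Cfsg.Agent.LieClassical.OrthSimple Cfsg.Agent.LieClassical.OrthFinite
open Cfsg.Agent.H847.Bs Cfsg.Agent.H900.Gen Cfsg.Agent.H818.Gen

variable {F V : Type*} [Field F] [AddCommGroup V] [Module F V] {Q : QuadraticForm F V}

/-! ### The centre of `E Q` -/

theorem exists_Q_ne (hG : Good Q) : ∃ v : V, Q v ≠ 0 := by
  by_contra hcon
  push Not at hcon
  obtain ⟨x, y, hxy⟩ := hG.exists_hyp
  have h1 := hxy.pair
  rw [polar, hcon, hcon, hcon] at h1
  simp at h1

theorem center_scalar (hG : Good Q) {z : V ≃ₗ[F] V} (hz : z ∈ E Q) (hc : ∀ y ∈ E Q, z * y = y * z) :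
    ∃ c : F, ∀ v, z v = c • v := by
  let N : Subgroup (V ≃ₗ[F] V) := E Q ⊓ Subgroup.centralizer (E Q : Set (V ≃ₗ[F] V))
  have hN : ∀ g ∈ E Q, ∀ n ∈ N, g * n * g⁻¹ ∈ N := by
    rintro g hg n ⟨hn, hn'⟩
    have h1 : g * n * g⁻¹ = n := by
      rw [(Subgroup.mem_centralizer_iff.1 hn') g hg, mul_inv_cancel_right]
    rw [h1]
    exact ⟨hn, hn'⟩
  rcases good_normal_dichotomy hG (N := N) inf_le_left hN with h | h
  · exact h z ⟨hz, Subgroup.mem_centralizer_iff.2 fun y hy => (hc y hy).symm⟩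
  · exfalso
    have hs := good_isSimpleGroup hG
    have h1 : (Subgroup.center (E Q)) = ⊤ := by
      rw [eq_top_iff]
      intro x _
      rw [Subgroup.mem_center_iff]
      intro y
      have h2 : (x : V ≃ₗ[F] V) ∈ N := by
        rw [h]
        exact x.2
      exact Subtype.ext ((Subgroup.mem_centralizer_iff.1 h2.2) y y.2)
    have h3 := hs.toNontrivial
    obtain ⟨a, b, hab⟩ := h3
    apply hab
    induction a using QuotientGroup.induction_on with
    | H a =>
      induction b using QuotientGroup.induction_on with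
      | H b =>
        rw [QuotientGroup.eq, h1]
        exact Subgroup.mem_top _

theorem center_sq (hG : Good Q) {z : V ≃ₗ[F] V} (hz : z ∈ E Q) (hc : ∀ y ∈ E Q, z * y = y * z) : z * z = 1 := by
  obtain ⟨c, h⟩ := center_scalar hG hz hc
  obtain ⟨v, hv⟩ := exists_Q_ne hG
  have h1 := (E_le_O hz) v
  rw [h, QuadraticMap.map_smul, smul_eq_mul] at h1
  have h2 : c * c = 1 := by
    have : (c * c - 1) * Q v = 0 := by linear_combination h1
    rcases mul_eq_zero.1 this with h3 | h3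
    · linear_combination h3
    · exact absurd h3 hv
  ext w
  rw [LinearEquiv.mul_apply, h, h, smul_smul, h2, one_smul]
  rfl

/-! ### Lifting -/

section lift

variable {G : Type*} [Group G] {p : ℕ}

theorem Quo.rho_eq (D : Quo Q G) {x : V ≃ₗ[F] V} (hx : x ∈ E Q) :
    D.ρ ⟨x, E_le_O hx⟩ = MulAut.conj (D.π ⟨x, hx⟩) := by
  ext g
  obtain ⟨y, rfl⟩ := D.surj g
  rw [D.act, MulAut.conj_apply, ← map_inv, ← map_mul, ← map_mul]
  rfl

theorem Quo.center_of_rho (D : Quo Q G) (hZ : ∀ g : G, (∀ h, g * h = h * g) → g = 1) {x : V ≃ₗ[F] V} (hx : x ∈ E Q)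
    (h : D.ρ ⟨x, E_le_O hx⟩ = 1) : ∀ y ∈ E Q, x * y = y * x := by
  rw [D.rho_eq hx] at h
  have h1 : D.π ⟨x, hx⟩ = 1 := by
    apply hZ
    intro g
    have h2 := congrArg (fun φ : MulAut G => φ g) h
    simp only [MulAut.conj_apply, MulAut.one_apply] at h2
    rw [mul_inv_eq_iff_eq_mul] at h2
    exact h2
  rw [D.ker, Subgroup.mem_center_iff] at h1
  intro y hy
  exact (congrArg Subtype.val (h1 ⟨y, hy⟩)).symm

/-- the commutators of the lifts are trivial -/
theorem lift_comm (hG : Good Q) (D : Quo Q G) (hZ : ∀ g : G, (∀ h, g * h = h * g) → g = 1) (hp : p % 2 = 1)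
    {E₀ : Subgroup (MulAut G)} (hE : ∀ a ∈ E₀, ∀ b ∈ E₀, a * b = b * a) {x y : V ≃ₗ[F] V} (hx : x ∈ E Q) (hy : y ∈ E Q)
    (hxE : D.ρ ⟨x, E_le_O hx⟩ ∈ E₀) (hyE : D.ρ ⟨y, E_le_O hy⟩ ∈ E₀) (hyp : y ^ p = 1) : x * y = y * x := by
  have hz : x * y * x⁻¹ * y⁻¹ ∈ E Q := (E Q).mul_mem ((E Q).mul_mem ((E Q).mul_mem hx hy) ((E Q).inv_mem hx)) ((E Q).inv_mem hy)
  have h1 : D.ρ ⟨x * y * x⁻¹ * y⁻¹, E_le_O hz⟩ = 1 := by
    have h2 : (⟨x * y * x⁻¹ * y⁻¹, E_le_O hz⟩ : O Q) = ⟨x, E_le_O hx⟩ * ⟨y, E_le_O hy⟩ * ⟨x, E_le_O hx⟩⁻¹ * ⟨y, E_le_O hy⟩⁻¹ := rfl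
    rw [h2, map_mul, map_mul, map_mul, map_inv, map_inv, hE _ hxE _ hyE]
    group
  have hc := D.center_of_rho hZ hz h1
  have hsq := center_sq hG hz hc
  set z := x * y * x⁻¹ * y⁻¹ with hzdef
  have h3 : x * y * x⁻¹ = z * y := by rw [hzdef]; group
  have h4 : (x * y * x⁻¹) ^ p = 1 := by
    rw [conj_pow, hyp, mul_one, mul_inv_cancel]
  have h5 : (z * y) ^ p = z ^ p * y ^ p := Commute.mul_pow (hc y hy) p
  rw [h3, h5, hyp, mul_one] at h4
  have h6 : z = 1 := by
    obtain ⟨k, hk⟩ : ∃ k, p = 2 * k + 1 := ⟨p / 2, by omega⟩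
    rw [hk, pow_succ, pow_mul, pow_two, hsq, one_pow, one_mul] at h4
    exact h4
  rw [h6, one_mul] at h3
  exact mul_inv_eq_iff_eq_mul.1 h3

/-- the lift of `E₀` -/
def lift (hG : Good Q) (D : Quo Q G) (hZ : ∀ g : G, (∀ h, g * h = h * g) → g = 1) (hp : p % 2 = 1)
    (E₀ : Subgroup (MulAut G)) (hE : ∀ a ∈ E₀, ∀ b ∈ E₀, a * b = b * a) : Subgroup (V ≃ₗ[F] V) where
  carrier := {x | ∃ hx : x ∈ E Q, D.ρ ⟨x, E_le_O hx⟩ ∈ E₀ ∧ x ^ p = 1}
  one_mem' := ⟨(E Q).one_mem, by
    have : (⟨1, E_le_O (E Q).one_mem⟩ : O Q) = 1 := rfl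
    rw [this, map_one]
    exact E₀.one_mem, one_pow p⟩
  mul_mem' := by
    rintro x y ⟨hx, hxE, hxp⟩ ⟨hy, hyE, hyp⟩
    have hc : Commute x y := lift_comm hG D hZ hp hE hx hy hxE hyE hyp
    refine ⟨(E Q).mul_mem hx hy, ?_, ?_⟩
    · have : (⟨x * y, E_le_O ((E Q).mul_mem hx hy)⟩ : O Q) = ⟨x, E_le_O hx⟩ * ⟨y, E_le_O hy⟩ := rfl
      rw [this, map_mul]
      exact E₀.mul_mem hxE hyE
    · rw [hc.mul_pow, hxp, hyp, one_mul]
  inv_mem' := by
    rintro x ⟨hx, hxE, hxp⟩
    refine ⟨(E Q).inv_mem hx, ?_, ?_⟩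
    · have : (⟨x⁻¹, E_le_O ((E Q).inv_mem hx)⟩ : O Q) = ⟨x, E_le_O hx⟩⁻¹ := rfl
      rw [this, map_inv]
      exact E₀.inv_mem hxE
    · rw [inv_pow, hxp, inv_one]

theorem lift_surj (hG : Good Q) (D : Quo Q G) (hZ : ∀ g : G, (∀ h, g * h = h * g) → g = 1) (hp : p % 2 = 1)
    (E₀ : Subgroup (MulAut G)) (hE : ∀ a ∈ E₀, ∀ b ∈ E₀, a * b = b * a) (hEp : ∀ a ∈ E₀, a ^ p = 1)
    (hin : E₀ ≤ (MulAut.conj : G →* MulAut G).range) {e : MulAut G} (he : e ∈ E₀) :
    ∃ x ∈ lift hG D hZ hp E₀ hE, ∃ hx : x ∈ E Q, D.ρ ⟨x, E_le_O hx⟩ = e := by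
  obtain ⟨g, hg⟩ := hin he
  obtain ⟨⟨x, hx⟩, rfl⟩ := D.surj g
  rw [← D.rho_eq hx] at hg
  have hxp : x ^ p ∈ E Q := (E Q).pow_mem hx p
  have h1 : D.ρ ⟨x ^ p, E_le_O hxp⟩ = 1 := by
    have : (⟨x ^ p, E_le_O hxp⟩ : O Q) = ⟨x, E_le_O hx⟩ ^ p := rfl
    rw [this, map_pow, hg, hEp e he]
  have h2 := center_sq hG hxp (D.center_of_rho hZ hxp h1)
  have hx' : x ^ (p + 1) ∈ E Q := (E Q).pow_mem hx _
  have h3 : D.ρ ⟨x ^ (p + 1), E_le_O hx'⟩ = e := by
    have : (⟨x ^ (p + 1), E_le_O hx'⟩ : O Q) = ⟨x, E_le_O hx⟩ ^ (p + 1) := rfl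
    rw [this, map_pow, hg, pow_succ, hEp e he, one_mul]
  refine ⟨x ^ (p + 1), ⟨hx', by rw [h3]; exact he, ?_⟩, hx', h3⟩
  obtain ⟨k, hk⟩ : ∃ k, p + 1 = 2 * k := ⟨(p + 1) / 2, by omega⟩
  rw [← pow_mul, mul_comm, pow_mul, hk, pow_mul, pow_two, h2, one_pow]

end lift

/-! ### The unipotent radical of the stabilizer of a totally singular subspace -/

section uni

/-- orthogonal complement -/
def prp (Q : QuadraticForm F V) (Y : Submodule F V) : Submodule F V where
  carrier := {x | ∀ y ∈ Y, polar Q x y = 0}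
  add_mem' := fun {a b} ha hb y hy => by rw [polar_add_left, ha y hy, hb y hy, add_zero]
  zero_mem' := fun y _ => QuadraticMap.polar_zero_left Q y
  smul_mem' := fun c a ha y hy => by rw [polar_smul_left, ha y hy, smul_zero]

/-- the unipotent radical inside `E Q` -/
def uni (Q : QuadraticForm F V) (Y : Submodule F V) (hY : Y ≤ prp Q Y) : Subgroup (E Q) where
  carrier := {g | (∀ v, (g : V ≃ₗ[F] V) v - v ∈ prp Q Y) ∧ (∀ v ∈ prp Q Y, (g : V ≃ₗ[F] V) v - v ∈ Y) ∧
    ∀ v ∈ Y, (g : V ≃ₗ[F] V) v = v}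
  one_mem' := ⟨fun v => by
      show v - v ∈ _
      rw [sub_self]
      exact (prp Q Y).zero_mem, fun v _ => by
      show v - v ∈ _
      rw [sub_self]
      exact Y.zero_mem, fun _ _ => rfl⟩
  mul_mem' := by
    rintro g h ⟨hg1, hg2, hg3⟩ ⟨hh1, hh2, hh3⟩
    refine ⟨fun v => ?_, fun v hv => ?_, fun v hv => ?_⟩
    · show (g : V ≃ₗ[F] V) ((h : V ≃ₗ[F] V) v) - v ∈ _
      have h1 := (prp Q Y).add_mem (hg1 ((h : V ≃ₗ[F] V) v)) (hh1 v)
      rwa [sub_add_sub_cancel] at h1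
    · show (g : V ≃ₗ[F] V) ((h : V ≃ₗ[F] V) v) - v ∈ _
      have h0 : (h : V ≃ₗ[F] V) v ∈ prp Q Y := by
        have := (prp Q Y).add_mem (hY (hh2 v hv)) hv
        rwa [sub_add_cancel] at this
      have h1 := Y.add_mem (hg2 _ h0) (hh2 v hv)
      rwa [sub_add_sub_cancel] at h1
    · show (g : V ≃ₗ[F] V) ((h : V ≃ₗ[F] V) v) = v
      rw [hh3 v hv, hg3 v hv]
  inv_mem' := by
    rintro g ⟨hg1, hg2, hg3⟩
    have e : ∀ v, (g : V ≃ₗ[F] V) (((g⁻¹ : E Q) : V ≃ₗ[F] V) v) = v := fun v => (g : V ≃ₗ[F] V).apply_symm_apply v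
    have h3 : ∀ v ∈ Y, ((g⁻¹ : E Q) : V ≃ₗ[F] V) v = v := by
      intro v hv
      apply (g : V ≃ₗ[F] V).injective
      rw [e, hg3 v hv]
    refine ⟨fun v => ?_, fun v hv => ?_, h3⟩
    · have h1 := hg1 (((g⁻¹ : E Q) : V ≃ₗ[F] V) v)
      rw [e] at h1
      have h2 := (prp Q Y).neg_mem h1
      rwa [neg_sub] at h2
    · have h0 : ((g⁻¹ : E Q) : V ≃ₗ[F] V) v ∈ prp Q Y := by
        have h1 := hg1 (((g⁻¹ : E Q) : V ≃ₗ[F] V) v)
        rw [e] at h1
        have h2 := (prp Q Y).sub_mem hv h1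
        rwa [sub_sub_cancel] at h2
      have h1 := hg2 _ h0
      rw [e] at h1
      have h2 := Y.neg_mem h1
      rwa [neg_sub] at h2

theorem uni_isPGroup {r : ℕ} [hr : Fact r.Prime] [CharP F r] (Y : Submodule F V) (hY : Y ≤ prp Q Y) :
    IsPGroup r (uni Q Y hY) := by
  intro g
  obtain ⟨⟨g, hgE⟩, hg1, hg2, hg3⟩ := g
  refine ⟨2, ?_⟩
  apply Subtype.ext
  apply Subtype.ext
  show g ^ r ^ 2 = 1
  -- work in `End V`
  let f : Module.End F V := (g : V →ₗ[F] V)
  have hnil : (f - 1) ^ 3 = 0 := by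
    ext v
    have h1 : ∀ w, (f - 1) w = g w - w := fun w => rfl
    show (f - 1) ((f - 1) ((f - 1) v)) = 0
    have a1 : (f - 1) v ∈ prp Q Y := by rw [h1]; exact hg1 v
    have a2 : (f - 1) ((f - 1) v) ∈ Y := by rw [h1 ((f - 1) v)]; exact hg2 _ a1
    rw [h1 ((f - 1) ((f - 1) v)), hg3 _ a2, sub_self]
  have hpow : (f - 1) ^ r ^ 2 = f ^ r ^ 2 - 1 := by
    have hch : CharP (Module.End F V) r ∨ Subsingleton V := by
      rcases subsingleton_or_nontrivial V with h | h
      · exact Or.inr h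
      · left
        exact charP_of_injective_algebraMap (algebraMap F (Module.End F V)).injective r
    rcases hch with hch | hch
    · have := sub_pow_char_pow_of_commute r 2 (Commute.one_right f)
      rw [this, one_pow]
    · ext v
      exact Subsingleton.elim _ _
  have h4 : f ^ r ^ 2 = 1 := by
    have h5 : 3 ≤ r ^ 2 := by
      have := hr.out.two_le
      nlinarith
    obtain ⟨k, hk⟩ := Nat.exists_eq_add_of_le h5
    rw [hk, pow_add, hnil, zero_mul] at hpow
    rw [← hk] at hpow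
    exact (sub_eq_zero.1 hpow.symm)
  ext v
  have h5 := congrArg (fun φ : Module.End F V => φ v) h4
  have h6 : f ^ r ^ 2 = ((g ^ r ^ 2 : V ≃ₗ[F] V) : V →ₗ[F] V) :=
    (map_pow (LinearEquiv.automorphismGroup.toLinearMapMonoidHom (R := F) (M := V)) g (r ^ 2)).symm
  rw [h6] at h5
  exact h5

theorem finrank_prp [FiniteDimensional F V] (Y : Submodule F V) :
    Module.finrank F V ≤ Module.finrank F (prp Q Y) + Module.finrank F Y := by
  let φ : V →ₗ[F] Module.Dual F Y :=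
    { toFun := fun v =>
        { toFun := fun y => polar Q v y
          map_add' := fun a b => polar_add_right ..
          map_smul' := fun c a => by rw [Submodule.coe_smul, polar_smul_right, RingHom.id_apply] }
      map_add' := fun a b => by
        ext y
        exact polar_add_left ..
      map_smul' := fun c a => by
        ext y
        exact polar_smul_left .. }
  have h1 : LinearMap.ker φ = prp Q Y := by
    ext v
    rw [LinearMap.mem_ker]
    constructor
    · intro h y hy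
      exact LinearMap.congr_fun h ⟨y, hy⟩
    · intro h
      ext y
      exact h y y.2
  have h2 := LinearMap.finrank_range_add_finrank_ker φ
  rw [h1] at h2
  have h3 : Module.finrank F (LinearMap.range φ) ≤ Module.finrank F (Module.Dual F Y) := Submodule.finrank_le _
  rw [Subspace.dual_finrank_eq] at h3
  omega

/-- a noncentral element -/
theorem exists_uni [FiniteDimensional F V] (hG : Good Q) (Y : Submodule F V) (hY : Y ≤ prp Q Y) (hs : ∀ y ∈ Y, Q y = 0)
    (hY0 : Y ≠ ⊥) : ∃ k ∈ uni Q Y hY, k ∉ Subgroup.center (E Q) := by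
  obtain ⟨u, hu, hu0⟩ := (Submodule.ne_bot_iff _).1 hY0
  -- `w`
  obtain ⟨w, hw, hwu⟩ : ∃ w ∈ prp Q Y, ∀ c : F, w ≠ c • u := by
    by_contra hcon
    push Not at hcon
    have h1 : prp Q Y ≤ Submodule.span F {u} := by
      intro w hw
      obtain ⟨c, hc⟩ := hcon w hw
      rw [Submodule.mem_span_singleton]
      exact ⟨c, hc.symm⟩
    have h2 : Module.finrank F (prp Q Y) ≤ 1 := (Submodule.finrank_mono h1).trans (finrank_span_singleton hu0).le
    have h3 : Module.finrank F Y ≤ 1 := (Submodule.finrank_mono hY).trans h2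
    have h4 := finrank_prp (Q := Q) Y
    have h5 := hG.dim
    omega
  have huw : polar Q u w = 0 := by
    rw [polar_comm]
    exact hw u hu
  refine ⟨⟨siegel Q u w (hs u hu) huw, siegel_mem_E _ _⟩, ⟨?_, ?_, ?_⟩, ?_⟩
  · intro v
    show siegel Q u w (hs u hu) huw v - v ∈ _
    rw [siegel_apply]
    have h1 : v + polar Q u v • w - polar Q w v • u - (Q w * polar Q u v) • u - v =
        polar Q u v • w - polar Q w v • u - (Q w * polar Q u v) • u := by abel
    rw [h1]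
    exact (prp Q Y).sub_mem ((prp Q Y).sub_mem ((prp Q Y).smul_mem _ hw) ((prp Q Y).smul_mem _ (hY hu)))
      ((prp Q Y).smul_mem _ (hY hu))
  · intro v hv
    show siegel Q u w (hs u hu) huw v - v ∈ _
    have h0 : polar Q u v = 0 := by
      rw [polar_comm]
      exact hv u hu
    rw [siegel_apply, h0]
    have h1 : v + (0 : F) • w - polar Q w v • u - (Q w * 0) • u - v = (-polar Q w v) • u := by module
    rw [h1]
    exact Y.smul_mem _ hu
  · intro v hv
    show siegel Q u w (hs u hu) huw v = v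
    have h0 : polar Q u v = 0 := by
      rw [polar_comm]
      exact (hY hv) u hu
    have h1 : polar Q w v = 0 := hw v hv
    rw [siegel_apply, h0, h1]
    module
  · intro hk
    rw [Subgroup.mem_center_iff] at hk
    have hk' : ∀ y ∈ E Q, siegel Q u w (hs u hu) huw * y = y * siegel Q u w (hs u hu) huw := by
      intro y hy
      exact (congrArg Subtype.val (hk ⟨y, hy⟩)).symm
    obtain ⟨c, hc⟩ := center_scalar hG (siegel_mem_E (hs u hu) huw) hk'
    have hc1 : c = 1 := by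
      have h1 := hc u
      have h0 : polar Q u u = 0 := polar_self_of_sing (hs u hu)
      rw [siegel_apply, h0, polar_comm Q w u, huw] at h1
      have h2 : (c - 1) • u = 0 := by
        rw [sub_smul, ← h1]
        module
      rcases smul_eq_zero.1 h2 with h3 | h3
      · linear_combination h3
      · exact absurd h3 hu0
    obtain ⟨v, hv⟩ := hG.nondeg.exists_polar_eq hu0 1
    have h1 := hc v
    rw [siegel_apply, hv, hc1] at h1
    have key : ∀ a b : F, v + (1 : F) • w - a • u - (b * 1) • u = (1 : F) • v → w = (a + b) • u := by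
      intro a b h
      have h2 : w = (v + (1 : F) • w - a • u - (b * 1) • u) - (1 : F) • v + (a + b) • u := by
        module
      rw [h2, h]
      module
    exact hwu _ (key _ _ h1)

end uni

/-! ### The main theorem -/

section main

variable [Finite F] [FiniteDimensional F V] {r p : ℕ} [hr : Fact r.Prime] [hp : Fact p.Prime] [CharP F r]

theorem simple_center {G : Type*} [Group G] [hs : IsSimpleGroup G] (hnc : ∃ a b : G, a * b ≠ b * a) :
    ∀ g : G, (∀ h, g * h = h * g) → g = 1 := by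
  intro g hg
  have h1 : g ∈ Subgroup.center G := Subgroup.mem_center_iff.2 fun h => (hg h).symm
  rcases (inferInstance : (Subgroup.center G).Normal).eq_bot_or_eq_top with h | h
  · rw [h, Subgroup.mem_bot] at h1
    exact h1
  · exfalso
    obtain ⟨a, b, hab⟩ := hnc
    apply hab
    have h2 : b ∈ Subgroup.center G := by
      rw [h]
      exact Subgroup.mem_top b
    exact (Subgroup.mem_center_iff.1 h2) a

/-- the anisotropy -/
theorem anis_of (hG : Good Q) {G : Type} [Group G] [Finite G] [IsSimpleGroup G] (hnc : ∃ a b : G, a * b ≠ b * a)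
    (hpr : p ≠ r) (hf : KFacts.RgdFilt.HasFilt r G) (D : Quo Q G) {E₀ : Subgroup (MulAut G)}
    (hE : IsElementaryAbelian p E₀) (hE2 : p ^ 2 ≤ Nat.card E₀) {A : Subgroup (V ≃ₗ[F] V)}
    (hEA : ∀ e ∈ E₀, ∃ a ∈ A, ∃ ha : a ∈ E Q, D.ρ ⟨a, E_le_O ha⟩ = e) (hne : Gam p E₀ ≠ ⊤) : Anis (frmQ Q) A := by
  intro Y hYA hYT
  by_contra hY0
  apply hne
  have hY : Y ≤ prp Q Y := fun x hx y hy => hYT.1 x hx y hy
  have hs : ∀ y ∈ Y, Q y = 0 := fun y hy => hYT.2 y hy
  let K : Subgroup G := (uni Q Y hY).map D.π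
  refine Cfsg.Agent.H522.Gen.gam_of_filt hf hnc hpr hE hE2 (K := K) ((uni_isPGroup Y hY).map _) ?_ ?_
  · intro hK
    obtain ⟨k, hk, hkc⟩ := exists_uni hG Y hY hs hY0
    apply hkc
    rw [← D.ker]
    have h1 : D.π k ∈ K := ⟨k, hk, rfl⟩
    rwa [hK, Subgroup.mem_bot] at h1
  · intro e he
    obtain ⟨a, ha, haE, rfl⟩ := hEA e he
    have haY : ∀ y ∈ Y, a y ∈ Y := fun y hy => hYA a ha y hy
    have haY' : ∀ y ∈ Y, a⁻¹ y ∈ Y := fun y hy => hYA a⁻¹ (A.inv_mem ha) y hy
    have hinv : ∀ v, a⁻¹ (a v) = v := fun v => a.symm_apply_apply v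
    have hinv' : ∀ v, a (a⁻¹ v) = v := fun v => a.apply_symm_apply v
    -- the general fact
    have key : ∀ b : V ≃ₗ[F] V, ∀ hb : b ∈ E Q, (∀ y ∈ Y, b y ∈ Y) → (∀ y ∈ Y, b⁻¹ y ∈ Y) →
        ∀ k ∈ uni Q Y hY, (⟨b * k * b⁻¹, conj_mem_E (E_le_O hb) k.2⟩ : E Q) ∈ uni Q Y hY := by
      intro b hb hbY hbY' k hk
      obtain ⟨hk1, hk2, hk3⟩ := hk
      have hbinv : ∀ v, b (b⁻¹ v) = v := fun v => b.apply_symm_apply v
      have hbP : ∀ v ∈ prp Q Y, b v ∈ prp Q Y := by
        intro v hv y hy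
        have h1 := polar_map (E_le_O hb) v (b⁻¹ y)
        rw [hbinv] at h1
        rw [h1]
        exact hv _ (hbY' y hy)
      have hbP' : ∀ v ∈ prp Q Y, b⁻¹ v ∈ prp Q Y := by
        intro v hv y hy
        have h1 := polar_map (E_le_O hb) (b⁻¹ v) y
        rw [hbinv] at h1
        rw [← h1]
        exact hv _ (hbY y hy)
      have e1 : ∀ v, (b * (k : V ≃ₗ[F] V) * b⁻¹) v - v = b ((k : V ≃ₗ[F] V) (b⁻¹ v) - b⁻¹ v) := by
        intro v
        rw [map_sub, hbinv]
        rfl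
      refine ⟨fun v => ?_, fun v hv => ?_, fun v hv => ?_⟩
      · show (b * (k : V ≃ₗ[F] V) * b⁻¹) v - v ∈ _
        rw [e1]
        exact hbP _ (hk1 _)
      · show (b * (k : V ≃ₗ[F] V) * b⁻¹) v - v ∈ _
        rw [e1]
        exact hbY _ (hk2 _ (hbP' v hv))
      · show b ((k : V ≃ₗ[F] V) (b⁻¹ v)) = v
        rw [hk3 _ (hbY' v hv), hbinv]
    apply le_antisymm
    · rintro _ ⟨_, ⟨k, hk, rfl⟩, rfl⟩
      refine ⟨_, key a haE haY haY' k hk, ?_⟩
      exact (D.act ⟨a, E_le_O haE⟩ k).symm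
    · rintro _ ⟨k, hk, rfl⟩
      have h1 := key a⁻¹ ((E Q).inv_mem haE) haY' (by rwa [inv_inv]) k hk
      refine ⟨_, ⟨_, h1, rfl⟩, ?_⟩
      show D.ρ ⟨a, E_le_O haE⟩ (D.π _) = _
      rw [D.act]
      congr 1
      apply Subtype.ext
      show a * (a⁻¹ * (k : V ≃ₗ[F] V) * a⁻¹⁻¹) * a⁻¹ = k
      group

/-- **Reduction to linear algebra.** -/
theorem gam_abs (hG : Good Q) (hp2 : p ≠ 2) (hpr : p ≠ r) (hlin : LinIso (frmQ Q) p (E Q)) {G : Type} [Group G]
    [Finite G] [IsSimpleGroup G] (hnc : ∃ a b : G, a * b ≠ b * a) (hf : KFacts.RgdFilt.HasFilt r G) (D : Quo Q G)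
    {E₀ : Subgroup (MulAut G)} (hE : IsElementaryAbelian p E₀) (hE2 : p ^ 2 ≤ Nat.card E₀)
    (hin : E₀ ≤ (MulAut.conj : G →* MulAut G).range) : Gam p E₀ = ⊤ := by
  by_contra hne
  have hZ := simple_center hnc
  have hodd : p % 2 = 1 := by
    rcases hp.out.eq_two_or_odd with h | h
    · exact absurd h hp2
    · exact h
  have hpR : p ≤ Nat.card E₀ := le_trans (by nlinarith [hp.out.one_lt]) hE2
  have hEc : ∀ a ∈ E₀, ∀ b ∈ E₀, a * b = b * a := by
    intro a ha b hb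
    exact congrArg Subtype.val (hE.1.1.1 ⟨a, ha⟩ ⟨b, hb⟩)
  set A := lift hG D hZ hodd E₀ hEc with hA
  have hsur : ∀ e ∈ E₀, ∃ a ∈ A, ∃ ha : a ∈ E Q, D.ρ ⟨a, E_le_O ha⟩ = e :=
    fun e he => lift_surj hG D hZ hodd E₀ hEc hE.2 hin he
  have hAE : A ≤ E Q := fun a ha => ha.1
  have hfinV : Finite V := Module.finite_of_finite F
  have hfinL : Finite (V ≃ₗ[F] V) := Finite.of_injective (fun g : V ≃ₗ[F] V => (g : V → V)) DFunLike.coe_injective
  have hEa : Ea (frmQ Q) p A := by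
    refine ⟨?_, ?_, fun a ha => ha.2.2, hp.out, hp2, ?_⟩
    · rw [iso_frmQ]
      exact hAE.trans E_le_O
    · intro a ha b hb
      exact lift_comm hG D hZ hodd hEc ha.1 hb.1 ha.2.1 hb.2.1 hb.2.2
    · intro h0
      rw [CharP.cast_eq_zero_iff F r] at h0
      exact hpr ((Nat.prime_dvd_prime_iff_eq hr.out hp.out).1 h0).symm
  have hcardA : p ^ 2 ≤ Nat.card A := by
    refine hE2.trans ?_
    refine Nat.card_le_card_of_surjective (fun a : A => (⟨D.ρ ⟨a, E_le_O a.2.1⟩, a.2.2.1⟩ : E₀)) ?_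
    rintro ⟨e, he⟩
    obtain ⟨a, ha, haE, h⟩ := hsur e he
    exact ⟨⟨a, ha⟩, Subtype.ext h⟩
  have hanis : Anis (frmQ Q) A := anis_of hG hnc hpr hf D hE hE2 hsur hne
  obtain ⟨A', hA', hAA', hN⟩ := hlin A hEa hcardA hanis
  have hA'O : A' ≤ O Q := by
    rw [← iso_frmQ]
    exact hA'.le
  -- the image of `A'`
  let R : O Q →* MulAut G := D.ρ
  let E' : Subgroup (MulAut G) := (A'.subgroupOf (O Q)).map R
  have hE'mem : ∀ a (ha : a ∈ A'), R ⟨a, hA'O ha⟩ ∈ E' := fun a ha => ⟨⟨a, hA'O ha⟩, ha, rfl⟩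
  have hEE' : E₀ ≤ E' := by
    intro e he
    obtain ⟨a, ha, haE, h⟩ := hsur e he
    rw [← h]
    exact hE'mem a (hAA' ha)
  have hE'el : IsElementaryAbelian p E' := by
    refine ⟨⟨⟨?_⟩⟩, ?_⟩
    · rintro ⟨_, a, ha, rfl⟩ ⟨_, b, hb, rfl⟩
      apply Subtype.ext
      show R a * R b = R b * R a
      rw [← map_mul, ← map_mul]
      congr 1
      exact Subtype.ext (hA'.comm a ha b hb)
    · rintro _ ⟨a, ha, rfl⟩
      rw [← map_pow]
      have h1 : a ^ p = 1 := Subtype.ext (hA'.pow a ha)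
      rw [h1, map_one]
  have hpR' : p ≤ Nat.card E' := hpR.trans (Subgroup.card_le_of_le hEE')
  -- the group `N`
  let N : Subgroup (V ≃ₗ[F] V) :=
    { carrier := {g | ∃ hg : g ∈ O Q, ∀ x, R ⟨g, hg⟩ x ∈ Gam p E' ↔ x ∈ Gam p E'}
      one_mem' := ⟨(O Q).one_mem, fun x => by
        have : (⟨1, (O Q).one_mem⟩ : O Q) = 1 := rfl
        rw [this, map_one]
        rfl⟩
      mul_mem' := by
        rintro g h ⟨hg, hg'⟩ ⟨hh, hh'⟩
        refine ⟨(O Q).mul_mem hg hh, fun x => ?_⟩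
        have : (⟨g * h, (O Q).mul_mem hg hh⟩ : O Q) = ⟨g, hg⟩ * ⟨h, hh⟩ := rfl
        rw [this, map_mul, MulAut.mul_apply, hg', hh']
      inv_mem' := by
        rintro g ⟨hg, hg'⟩
        refine ⟨(O Q).inv_mem hg, fun x => ?_⟩
        have : (⟨g⁻¹, (O Q).inv_mem hg⟩ : O Q) = ⟨g, hg⟩⁻¹ := rfl
        rw [this, map_inv, ← hg', ← MulAut.mul_apply, mul_inv_cancel, MulAut.one_apply] }
  have hNH : NH (frmQ Q) (E Q) A' N := by
    refine ⟨?_, ?_, ?_⟩
    · rintro g ⟨hg, -⟩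
      rw [iso_frmQ]
      exact hg
    · intro g hg hgA
      rw [iso_frmQ] at hg
      refine ⟨hg, ?_⟩
      -- `g⁻¹` normalizes too
      have hgA' : ∀ a ∈ A', g⁻¹ * a * g ∈ A' := by
        have hfinA : Finite A' := inferInstance
        have hinj : Function.Injective (fun a : A' => (⟨g * a * g⁻¹, hgA a a.2⟩ : A')) := by
          intro a b hab
          have h1 : g * (a : V ≃ₗ[F] V) * g⁻¹ = g * b * g⁻¹ := congrArg Subtype.val hab
          apply Subtype.ext
          exact mul_left_cancel (mul_right_cancel h1)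
        have hsurj := Finite.surjective_of_injective hinj
        intro a ha
        obtain ⟨b, hb⟩ := hsurj ⟨a, ha⟩
        have h1 : g * (b : V ≃ₗ[F] V) * g⁻¹ = a := congrArg Subtype.val hb
        have h2 : g⁻¹ * a * g = b := by
          rw [← h1]
          group
        rw [h2]
        exact b.2
      have c1 : ∀ e ∈ E', R ⟨g, hg⟩ * e * (R ⟨g, hg⟩)⁻¹ ∈ E' := by
        rintro _ ⟨a, ha, rfl⟩
        rw [← map_inv, ← map_mul, ← map_mul]
        exact hE'mem _ (hgA a ha)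
      have c2 : ∀ e ∈ E', (R ⟨g, hg⟩)⁻¹ * e * R ⟨g, hg⟩ ∈ E' := by
        rintro _ ⟨a, ha, rfl⟩
        rw [← map_inv, ← map_mul, ← map_mul]
        exact hE'mem _ (hgA' a ha)
      intro x
      constructor
      · intro hx
        have h1 := conj_Gam (p := p) (E := E') (φ := (R ⟨g, hg⟩)⁻¹) (by rwa [inv_inv]) (by rwa [inv_inv]) hx
        rwa [← MulAut.mul_apply, inv_mul_cancel, MulAut.one_apply] at h1
      · intro hx
        exact conj_Gam c1 c2 hx
    · intro c hc H hH hAH g hg hgH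
      refine ⟨E_le_O hg, ?_⟩
      -- `π g` is in `Gam p E'`
      have hmem : D.π ⟨g, hg⟩ ∈ Gam p E' := by
        let F' : Subgroup (MulAut G) := (H.subgroupOf (O Q)).map R
        have hF' : F' ≤ E' := Subgroup.map_mono (Subgroup.comap_mono hH)
        refine Cfsg.Agent.H522.Gen.mem_of_fix hE'el hpR' (F := F') hF' ?_ ?_
        · -- the index
          let c' : MulAut G := R ⟨c, hA'O hc⟩
          have hc'p : c' ^ p = 1 := hE'el.2 _ (hE'mem c hc)
          have hcard : Nat.card E' ≤ Nat.card F' * p := by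
            have h1 : Nat.card (Subgroup.zpowers c') ≤ p := by
              rw [Nat.card_zpowers]
              exact Nat.le_of_dvd hp.out.pos (orderOf_dvd_of_pow_eq_one hc'p)
            refine le_trans ?_ (Nat.mul_le_mul_left _ h1)
            rw [← Nat.card_prod]
            -- elements of `A'`
            have hS : ∀ a ∈ A', ∃ f ∈ H, ∃ i : ℤ, a = f * c ^ i := by
              let S : Subgroup (V ≃ₗ[F] V) :=
                { carrier := {a | ∃ f ∈ H, ∃ i : ℤ, a = f * c ^ i}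
                  one_mem' := ⟨1, H.one_mem, 0, by rw [zpow_zero, mul_one]⟩
                  mul_mem' := by
                    rintro _ _ ⟨f, hf, i, rfl⟩ ⟨f', hf', j, rfl⟩
                    have hcf : Commute c f' := hA'.comm c hc f' (hH hf')
                    refine ⟨f * f', H.mul_mem hf hf', i + j, ?_⟩
                    calc f * c ^ i * (f' * c ^ j) = f * (c ^ i * f') * c ^ j := by group
                      _ = f * (f' * c ^ i) * c ^ j := by rw [(hcf.zpow_left i).eq]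
                      _ = f * f' * c ^ (i + j) := by rw [zpow_add]; group
                  inv_mem' := by
                    rintro _ ⟨f, hf, i, rfl⟩
                    have hcf : Commute c f := hA'.comm c hc f (hH hf)
                    refine ⟨f⁻¹, H.inv_mem hf, -i, ?_⟩
                    rw [mul_inv_rev, ← zpow_neg]
                    exact ((hcf.inv_right).zpow_left (-i)).eq }
              intro a ha
              have h2 : H ⊔ Subgroup.zpowers c ≤ S := by
                refine sup_le ?_ ?_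
                · intro f hf
                  exact ⟨f, hf, 0, by rw [zpow_zero, mul_one]⟩
                · rw [Subgroup.zpowers_le]
                  exact ⟨1, H.one_mem, 1, by rw [zpow_one, one_mul]⟩
              exact h2 (hAH ha)
            refine Nat.card_le_card_of_surjective (fun x : F' × Subgroup.zpowers c' =>
              (⟨(x.1 : MulAut G) * x.2, E'.mul_mem (hF' x.1.2)
                ((Subgroup.zpowers_le.2 (hE'mem c hc)) x.2.2)⟩ : E')) ?_
            rintro ⟨_, a, ha, rfl⟩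
            obtain ⟨f, hf, i, hfi⟩ := hS a ha
            refine ⟨(⟨R ⟨f, hA'O (hH hf)⟩, ⟨⟨f, hA'O (hH hf)⟩, hf, rfl⟩⟩,
              ⟨c' ^ i, Subgroup.zpow_mem_zpowers c' i⟩), ?_⟩
            apply Subtype.ext
            show R ⟨f, hA'O (hH hf)⟩ * (R ⟨c, hA'O hc⟩) ^ i = R a
            rw [← map_zpow, ← map_mul]
            congr 1
            exact Subtype.ext hfi.symm
          have h3 := (F'.subgroupOf E').card_mul_index
          rw [Nat.card_congr (Subgroup.subgroupOfEquivOfLe hF').toEquiv] at h3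
          rw [← h3] at hcard
          exact Nat.le_of_mul_le_mul_left hcard Nat.card_pos
        · rintro _ ⟨f, hf, rfl⟩
          show D.ρ f (D.π ⟨g, hg⟩) = _
          rw [D.act]
          congr 1
          apply Subtype.ext
          show (f : V ≃ₗ[F] V) * g * (f : V ≃ₗ[F] V)⁻¹ = g
          rw [← hgH f hf, mul_inv_cancel_right]
      intro x
      have h1 : R ⟨g, E_le_O hg⟩ x = D.π ⟨g, hg⟩ * x * (D.π ⟨g, hg⟩)⁻¹ := by
        show D.ρ ⟨g, E_le_O hg⟩ x = _
        rw [D.rho_eq hg, MulAut.conj_apply]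
      rw [h1, Subgroup.mul_mem_cancel_right _ (Subgroup.inv_mem _ hmem), Subgroup.mul_mem_cancel_left _ hmem]
  have hNtop := hN N hNH
  rw [iso_frmQ] at hNtop
  -- `Gam p E'` is normal
  have hnorm : (Gam p E').Normal := by
    refine ⟨fun x hx g => ?_⟩
    obtain ⟨⟨y, hy⟩, rfl⟩ := D.surj g
    obtain ⟨hyO, h⟩ := hNtop (E_le_O hy)
    have h1 : R ⟨y, E_le_O hy⟩ x = D.π ⟨y, hy⟩ * x * (D.π ⟨y, hy⟩)⁻¹ := by
      show D.ρ ⟨y, E_le_O hy⟩ x = _
      rw [D.rho_eq hy, MulAut.conj_apply]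
    rw [← h1]
    exact (h x).2 hx
  have htop : Gam p E' = ⊤ := by
    rcases hnorm.eq_bot_or_eq_top with h | h
    · exfalso
      -- a nontrivial element of `A`
      have hA1 : 1 < Nat.card A := lt_of_lt_of_le (by nlinarith [hp.out.one_lt]) hcardA
      have : Nontrivial A := Finite.one_lt_card_iff_nontrivial.1 hA1
      obtain ⟨a, ha1⟩ := exists_ne (1 : A)
      have haE : (a : V ≃ₗ[F] V) ∈ E Q := a.2.1
      have h1 : D.π ⟨a, haE⟩ ∈ CF E' := by
        rintro _ ⟨b, hb, rfl⟩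
        show D.ρ b (D.π ⟨a, haE⟩) = _
        rw [D.act]
        congr 1
        apply Subtype.ext
        show (b : V ≃ₗ[F] V) * a * (b : V ≃ₗ[F] V)⁻¹ = a
        rw [hA'.comm b hb a (hAA' a.2), mul_inv_cancel_right]
      have h2 := CF_le_Gam_of_card hE'el hpR' h1
      rw [h, Subgroup.mem_bot, D.ker, Subgroup.mem_center_iff] at h2
      have h3 := center_sq hG haE (fun y hy => (congrArg Subtype.val (h2 ⟨y, hy⟩)).symm)
      apply ha1
      apply Subtype.ext
      have h4 : (a : V ≃ₗ[F] V) ^ p = 1 := a.2.2.2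
      obtain ⟨k, hk⟩ : ∃ k, p = 2 * k + 1 := ⟨p / 2, by omega⟩
      rw [hk, pow_succ, pow_mul, pow_two, h3, one_pow, one_mul] at h4
      exact h4
    · exact h
  apply hne
  rw [eq_top_iff, ← htop]
  exact Gam_mono hEE' hE'el hpR

end main

end Cfsg.Agent.H889.Gen
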