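import Cfsg.Agent.H900.Gen.StmtO
import Cfsg.Agent.LieClassical.OrthFinite

/-!
# S2187, orthogonal rows: the action of the isometry group on `PΩ` (helper889)

`Quo Q G` : `G` is the quotient of `E Q` by its centre, with the action of `O Q`.
`quo_pomega` : the group `POmega F Q`.
-/

set_option autoImplicit false
set_option linter.unusedSectionVars false

namespace Cfsg.Agent.H889.Gen

open QuadraticMap Cfsg.Agent.LieClassical.OrthCore Cfsg.Agent.LieClassical.OrthTrans
open Cfsg.Agent.LieClassical.OrthSimple Cfsg.Agent.LieClassical.OrthFinite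

section defs

variable {F V : Type*} [Field F] [AddCommGroup V] [Module F V]

/-- `G` is the quotient of `E Q` by its centre, with the action of `O Q` -/
structure Quo (Q : QuadraticForm F V) (G : Type*) [Group G] where
  /-- the projection -/
  π : E Q →* G
  surj : Function.Surjective π
  ker : ∀ x : E Q, π x = 1 ↔ x ∈ Subgroup.center (E Q)
  /-- the action -/
  ρ : O Q →* MulAut G
  act : ∀ (g : O Q) (x : E Q), ρ g (π x) = π ⟨(g : V ≃ₗ[F] V) * x * (g : V ≃ₗ[F] V)⁻¹, conj_mem_E g.2 x.2⟩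

/-- conjugation -/
def conjE (Q : QuadraticForm F V) : O Q →* MulAut (E Q) where
  toFun g :=
    { toFun := fun x => ⟨(g : V ≃ₗ[F] V) * x * (g : V ≃ₗ[F] V)⁻¹, conj_mem_E g.2 x.2⟩
      invFun := fun x => ⟨(g : V ≃ₗ[F] V)⁻¹ * x * ((g : V ≃ₗ[F] V)⁻¹)⁻¹, conj_mem_E ((O Q).inv_mem g.2) x.2⟩
      left_inv := fun x => Subtype.ext (by
        show (g : V ≃ₗ[F] V)⁻¹ * ((g : V ≃ₗ[F] V) * x * (g : V ≃ₗ[F] V)⁻¹) * ((g : V ≃ₗ[F] V)⁻¹)⁻¹ = x
        group)
      right_inv := fun x => Subtype.ext (by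
        show (g : V ≃ₗ[F] V) * ((g : V ≃ₗ[F] V)⁻¹ * x * ((g : V ≃ₗ[F] V)⁻¹)⁻¹) * (g : V ≃ₗ[F] V)⁻¹ = x
        group)
      map_mul' := fun x y => Subtype.ext (by
        show (g : V ≃ₗ[F] V) * (x * y : V ≃ₗ[F] V) * (g : V ≃ₗ[F] V)⁻¹ =
          ((g : V ≃ₗ[F] V) * x * (g : V ≃ₗ[F] V)⁻¹) * ((g : V ≃ₗ[F] V) * y * (g : V ≃ₗ[F] V)⁻¹)
        group) }
  map_one' := by
    ext x : 1
    exact Subtype.ext (by
      show (1 : V ≃ₗ[F] V) * x * (1 : V ≃ₗ[F] V)⁻¹ = x
      group)
  map_mul' g h := by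
    ext x : 1
    exact Subtype.ext (by
      show ((g : V ≃ₗ[F] V) * h) * x * ((g : V ≃ₗ[F] V) * h)⁻¹ =
        (g : V ≃ₗ[F] V) * ((h : V ≃ₗ[F] V) * x * (h : V ≃ₗ[F] V)⁻¹) * (g : V ≃ₗ[F] V)⁻¹
      group)

/-- automorphisms of the quotient by the centre -/
noncomputable def autQ (G : Type*) [Group G] : MulAut G →* MulAut (G ⧸ Subgroup.center G) where
  toFun φ := QuotientGroup.congr _ _ φ (map_center_mulEquiv φ)
  map_one' := by
    ext x
    induction x using QuotientGroup.induction_on with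
    | H x => rfl
  map_mul' φ ψ := by
    ext x
    induction x using QuotientGroup.induction_on with
    | H x => rfl

theorem autQ_mk {G : Type*} [Group G] (φ : MulAut G) (x : G) :
    autQ G φ (QuotientGroup.mk' (Subgroup.center G) x) = QuotientGroup.mk' (Subgroup.center G) (φ x) := rfl

/-- the quotient by the centre -/
noncomputable def quo0 (Q : QuadraticForm F V) : Quo Q (E Q ⧸ Subgroup.center (E Q)) where
  π := QuotientGroup.mk' _
  surj := QuotientGroup.mk'_surjective _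
  ker x := QuotientGroup.eq_one_iff x
  ρ := (autQ (E Q)).comp (conjE Q)
  act _ _ := rfl

/-- transport -/
noncomputable def Quo.trans {Q : QuadraticForm F V} {G H : Type*} [Group G] [Group H] (D : Quo Q G) (e : G ≃* H) :
    Quo Q H where
  π := e.toMonoidHom.comp D.π
  surj := e.surjective.comp D.surj
  ker x := by
    rw [← D.ker x]
    show e (D.π x) = 1 ↔ _
    exact map_eq_one_iff e e.injective
  ρ := (MulAut.congr e).toMonoidHom.comp D.ρ
  act g x := by
    show e (D.ρ g (e.symm (e (D.π x)))) = e (D.π _)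
    rw [e.symm_apply_apply, D.act]

end defs

/-- **`PΩ`** -/
noncomputable def quo_pomega {ι : Type} [Fintype ι] [DecidableEq ι] {F : Type*} [Field F]
    {Q : QuadraticForm F (ι → F)} (hG : Good Q) : Quo Q (Cfsg.POmega F ⇑Q) :=
  (quo0 Q).trans (quotientCenterCongr ((omegaEquiv Q).trans (MulEquiv.subgroupCongr hG.commutator_eq_E))).symm

end Cfsg.Agent.H889.Gen
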